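import Mathlib

/-!
Recognising dihedral groups.
-/

set_option autoImplicit false

namespace CfsgLib.Suborbit

/-- A finite group of order `2n` with an element of order `n` inverted by an involution outside its
cyclic subgroup is dihedral. -/
theorem dihedral_of_inverts {G : Type*} [Group G] [Finite G] (n : ℕ) [NeZero n] (r s : G)
    (hcard : Nat.card G = 2 * n) (hr : orderOf r = n) (hs : s * s = 1)
    (hnot : s ∉ Subgroup.zpowers r) (hinv : s * r * s = r⁻¹) :
    Nonempty (G ≃* DihedralGroup n) := by
  have hp : ∀ i j : ZMod n, r ^ (i + j).val = r ^ i.val * r ^ j.val := fun i j => by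
    rw [← pow_add, pow_eq_pow_iff_modEq, hr, ZMod.val_add]
    exact Nat.mod_modEq _ _
  have h0 : r ^ (0 : ZMod n).val = 1 := by rw [ZMod.val_zero, pow_zero]
  have hneg : ∀ i : ZMod n, r ^ (-i).val = (r ^ i.val)⁻¹ := fun i =>
    eq_inv_of_mul_eq_one_left (by rw [← hp, neg_add_cancel, h0])
  have hsub : ∀ i j : ZMod n, r ^ (j - i).val = (r ^ i.val)⁻¹ * r ^ j.val := fun i j => by
    rw [sub_eq_neg_add, hp, hneg]
  have hcomm : ∀ k : ℕ, r ^ k * s = s * (r ^ k)⁻¹ := by
    intro k
    induction k with
    | zero => simp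
    | succ k ih =>
      have h1 : r * s = s * r⁻¹ := by
        rw [← hinv, ← mul_assoc, ← mul_assoc, hs, one_mul]
      calc r ^ (k + 1) * s = r ^ k * (r * s) := by rw [pow_succ, mul_assoc]
        _ = (r ^ k * s) * r⁻¹ := by rw [h1, mul_assoc]
        _ = s * ((r ^ k)⁻¹ * r⁻¹) := by rw [ih, mul_assoc]
        _ = s * (r ^ (k + 1))⁻¹ := by rw [pow_succ', mul_inv_rev]
  let f : DihedralGroup n → G := fun x => match x with
    | .r i => r ^ i.val
    | .sr i => s * r ^ i.val
  have hmul : ∀ x y, f (x * y) = f x * f y := by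
    rintro (i | i) (j | j)
    · show r ^ (i + j).val = _
      exact hp i j
    · show s * r ^ (j - i).val = r ^ i.val * (s * r ^ j.val)
      rw [← mul_assoc, hcomm, hsub, mul_assoc]
    · show s * r ^ (i + j).val = s * r ^ i.val * r ^ j.val
      rw [hp, mul_assoc]
    · show r ^ (j - i).val = s * r ^ i.val * (s * r ^ j.val)
      rw [hsub, ← mul_assoc, mul_assoc s, hcomm, ← mul_assoc, hs, one_mul]
  let φ : DihedralGroup n →* G := MonoidHom.mk' f hmul
  have hinj : Function.Injective φ := by
    rw [injective_iff_map_eq_one]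
    rintro (i | i) h
    · have : i.val = 0 := by
        have hd := orderOf_dvd_of_pow_eq_one (show r ^ i.val = 1 from h)
        rw [hr] at hd
        exact Nat.eq_zero_of_dvd_of_lt hd (ZMod.val_lt i)
      rw [(ZMod.val_eq_zero i).1 this, DihedralGroup.r_zero]
    · exfalso
      apply hnot
      rw [eq_inv_of_mul_eq_one_left (show s * r ^ i.val = 1 from h)]
      exact inv_mem (pow_mem (Subgroup.mem_zpowers r) _)
  exact ⟨(MulEquiv.ofBijective φ ((Nat.bijective_iff_injective_and_card φ).2
    ⟨hinj, by rw [DihedralGroup.nat_card, hcard]⟩)).symm⟩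

end CfsgLib.Suborbit
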