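import Mathlib

/-!
A subgroup of index `n` of a doubly transitive group of degree `n` has at most two orbits.
-/

set_option autoImplicit false
set_option linter.style.haveILetI false

namespace CfsgLib.TwoOrbits

open MulAction

variable {G Ω : Type*} [Group G] [MulAction G Ω]

/-- The incidence of `G ⧸ H` and points, given by an `H`-invariant set. -/
noncomputable def inc (H : Subgroup G) (O : Set Ω) (p : G ⧸ H) (a : Ω) : ℚ := by
  classical exact if (p.out)⁻¹ • a ∈ O then 1 else 0

theorem inc_smul (H : Subgroup G) (O : Set Ω) (hO : ∀ h ∈ H, ∀ a ∈ O, h • a ∈ O) (g : G) (p : G ⧸ H)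
    (a : Ω) : inc H O (g • p) (g • a) = inc H O p a := by
  classical
  have h1 : (QuotientGroup.mk (g * p.out) : G ⧸ H) = g • p := by
    conv_rhs => rw [← p.out_eq]
    rfl
  obtain ⟨h, hh⟩ := QuotientGroup.mk_out_eq_mul H (g * p.out)
  rw [h1] at hh
  unfold inc
  refine if_congr ?_ rfl rfl
  rw [hh, mul_inv_rev, mul_smul, mul_inv_rev, mul_smul, inv_smul_smul]
  constructor
  · intro hm
    have := hO h h.2 _ hm
    rwa [smul_inv_smul] at this
  · exact fun hm => hO _ (inv_mem h.2) _ hm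

open Classical in
theorem inc_one (H : Subgroup G) (O : Set Ω) (hO : ∀ h ∈ H, ∀ a ∈ O, h • a ∈ O) (a : Ω) :
    inc H O (QuotientGroup.mk (1 : G)) a = if (a ∈ O) then 1 else 0 := by
  classical
  obtain ⟨h, hh⟩ := QuotientGroup.mk_out_eq_mul H (1 : G)
  unfold inc
  refine if_congr ?_ rfl rfl
  rw [hh, one_mul]
  constructor
  · intro hm
    have := hO h h.2 _ hm
    rwa [smul_inv_smul] at this
  · exact fun hm => hO _ (inv_mem h.2) _ hm

theorem le_two [Finite G] [Finite Ω] (h2 : IsMultiplyPretransitive G Ω 2) (H : Subgroup G)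
    (hidx : H.index = Nat.card Ω) {a b c : Ω} (hab : b ∉ orbit H a) (hac : c ∉ orbit H a) :
    c ∈ orbit H b := by
  classical
  by_contra hbc
  haveI := Fintype.ofFinite Ω
  haveI := Fintype.ofFinite (G ⧸ H)
  set O1 : Set Ω := orbit H a
  set O2 : Set Ω := orbit H b
  have hO : ∀ x : Ω, ∀ h ∈ H, ∀ y ∈ orbit H x, h • y ∈ orbit H x := fun x h hh y hy =>
    mem_orbit_of_mem_orbit (⟨h, hh⟩ : H) hy
  let M : Set Ω → (Ω → ℚ) →ₗ[ℚ] (G ⧸ H → ℚ) := fun O => Matrix.mulVecLin (Matrix.of (inc H O))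
  have hMapply : ∀ O u p, M O u p = ∑ x, inc H O p x * u x := fun O u p => rfl
  have htrans : IsPretransitive G Ω := by
    refine ⟨fun x y => ?_⟩
    by_cases hxy : x = y
    · exact ⟨1, by rw [one_smul, hxy]⟩
    · obtain ⟨g, hg, -⟩ := (is_two_pretransitive_iff (G := G) (α := Ω)).1 h2
        hxy (Ne.symm hxy)
      exact ⟨g, hg⟩
  -- column sums
  have hcol : ∀ x y : Ω, (∀ h ∈ H, ∀ z ∈ orbit H a, h • z ∈ orbit H a) →
      ∀ O : Set Ω, (∀ h ∈ H, ∀ z ∈ O, h • z ∈ O) → ∑ p, inc H O p x = ∑ p, inc H O p y := by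
    intro x y _ O hO'
    obtain ⟨g, rfl⟩ := exists_smul_eq G x y
    exact Fintype.sum_bijective (g • ·) (MulAction.bijective g) _ _ fun p => (inc_smul H O hO' g p x).symm
  -- bilinear form
  have hform : ∀ x' y' : Ω, ∃ α : ℚ, ∀ u w : Ω → ℚ, ∑ x, u x = 0 → ∑ x, w x = 0 →
      ∑ p, M (orbit H x') u p * M (orbit H y') w p = α * ∑ x, u x * w x := by
    intro x' y'
    let S : Ω → Ω → ℚ := fun x y => ∑ p, inc H (orbit H x') p x * inc H (orbit H y') p y
    have hS : ∀ (g : G) (x y : Ω), S (g • x) (g • y) = S x y := by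
      intro g x y
      refine (Fintype.sum_bijective (g • ·) (MulAction.bijective g) _ _ fun p => ?_).symm
      rw [inc_smul H _ (hO x') g p x, inc_smul H _ (hO y') g p y]
    obtain ⟨β, hβ⟩ : ∃ β, ∀ x y, x ≠ y → S x y = β := by
      refine ⟨S a b, fun x y hxy => ?_⟩
      obtain ⟨g, hgx, hgy⟩ := (is_two_pretransitive_iff (G := G) (α := Ω)).1 h2
        (show a ≠ b from fun e => hab (e ▸ mem_orbit_self a)) hxy
      rw [← hgx, ← hgy, hS]
    have hd : ∀ x, S x x = S a a := fun x => by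
      obtain ⟨g, rfl⟩ := exists_smul_eq G a x
      exact hS g a a
    refine ⟨S a a - β, fun u w hu hw => ?_⟩
    have hexp : ∑ p, M (orbit H x') u p * M (orbit H y') w p = ∑ x, ∑ y, u x * w y * S x y := by
      simp only [hMapply]
      simp only [Finset.sum_mul_sum, S]
      simp only [Finset.mul_sum]
      rw [Finset.sum_comm]
      refine Finset.sum_congr rfl fun x _ => ?_
      rw [Finset.sum_comm]
      exact Finset.sum_congr rfl fun y _ => Finset.sum_congr rfl fun p _ => by ring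
    obtain ⟨κ, hκ⟩ : ∃ κ, κ = S a a - β := ⟨_, rfl⟩
    rw [← hκ]
    have hSs : ∀ x y, S x y = β + (if x = y then κ else 0) := fun x y => by
      split_ifs with h
      · rw [h, hd, hκ]; ring
      · rw [hβ x y h, add_zero]
    rw [hexp]
    simp only [hSs, mul_add, Finset.sum_add_distrib, mul_ite, mul_zero, Finset.sum_ite_eq,
      Finset.mem_univ, if_true]
    have h0 : ∑ x, ∑ y, u x * w y * β = 0 := by
      have : ∑ x, ∑ y, u x * w y * β = (∑ x, u x) * (∑ y, w y) * β := by
        rw [Finset.sum_mul_sum, Finset.sum_mul]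
        exact Finset.sum_congr rfl fun x _ => (Finset.sum_mul _ _ _).symm
      rw [this, hu, zero_mul, zero_mul]
    rw [h0, zero_add, Finset.mul_sum]
    exact Finset.sum_congr rfl fun x _ => by ring
  obtain ⟨α, hα⟩ := hform a a
  obtain ⟨γ, hγ⟩ := hform a b
  have hsum : ∀ O : Set Ω, (∀ h ∈ H, ∀ z ∈ O, h • z ∈ O) → ∀ u : Ω → ℚ,
      ∑ p, M O u p = (∑ p, inc H O p a) * ∑ x, u x := by
    intro O hO' u
    simp only [hMapply]
    rw [Finset.sum_comm, Finset.mul_sum]
    refine Finset.sum_congr rfl fun x _ => ?_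
    rw [← Finset.sum_mul, hcol x a (hO a) O hO']
  -- α is positive
  let u0 : Ω → ℚ := Pi.single a 1 - Pi.single b 1
  have hu0 : ∑ x, u0 x = 0 := by simp [u0, Finset.sum_sub_distrib]
  have hu01 : M O1 u0 (QuotientGroup.mk (1 : G)) = 1 := by
    rw [hMapply]
    simp only [u0, Pi.sub_apply, mul_sub, Finset.sum_sub_distrib, Pi.single_apply, mul_ite, mul_one,
      mul_zero, Finset.sum_ite_eq', Finset.mem_univ, if_true, inc_one H O1 (hO a)]
    rw [if_pos (show a ∈ O1 from mem_orbit_self a), if_neg (show b ∉ O1 from hab)]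
    ring
  have hαne : α ≠ 0 := by
    intro h0
    have := hα u0 u0 hu0 hu0
    rw [h0, zero_mul] at this
    have h1 := (Finset.sum_eq_zero_iff_of_nonneg (fun p _ => mul_self_nonneg (M O1 u0 p))).1 this
      (QuotientGroup.mk (1 : G)) (Finset.mem_univ _)
    rw [hu01] at h1
    norm_num at h1
  have hcpos : ∑ p, inc H O1 p a ≠ 0 := by
    refine ne_of_gt (Finset.sum_pos' (fun p _ => ?_) ⟨QuotientGroup.mk (1 : G), Finset.mem_univ _, ?_⟩)
    · unfold inc; split_ifs <;> norm_num
    · rw [inc_one H O1 (hO a), if_pos (show a ∈ O1 from mem_orbit_self a)]; norm_num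
  have hinj : Function.Injective (M O1) := by
    rw [injective_iff_map_eq_zero]
    intro u hu
    have h1 : ∑ x, u x = 0 := by
      have := hsum O1 (hO a) u
      rw [hu] at this
      simpa [hcpos] using this
    have h2' := hα u u h1 h1
    rw [hu] at h2'
    simp [hαne] at h2'
    funext x
    have := (Finset.sum_eq_zero_iff_of_nonneg (fun x _ => mul_self_nonneg (u x))).1 h2' x (Finset.mem_univ _)
    simpa using mul_self_eq_zero.1 this
  have hsurj : Function.Surjective (M O1) := by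
    refine (LinearMap.injective_iff_surjective_of_finrank_eq_finrank ?_).1 hinj
    rw [Module.finrank_fintype_fun_eq_card, Module.finrank_fintype_fun_eq_card, ← Nat.card_eq_fintype_card,
      ← Nat.card_eq_fintype_card, ← hidx, Subgroup.index]
  let w0 : Ω → ℚ := Pi.single b 1 - Pi.single c 1
  have hw0 : ∑ x, w0 x = 0 := by simp [w0, Finset.sum_sub_distrib]
  obtain ⟨y, hy⟩ := hsurj (M O2 w0)
  have hy0 : ∑ x, y x = 0 := by
    have h1 := hsum O1 (hO a) y
    rw [hy, hsum O2 (hO b) w0, hw0, mul_zero] at h1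
    exact (mul_eq_zero.1 h1.symm).resolve_left hcpos
  set t := γ / α
  let d : Ω → ℚ := fun x => y x - t * w0 x
  have hd0 : ∑ x, d x = 0 := by simp [d, Finset.sum_sub_distrib, ← Finset.mul_sum, hy0, hw0]
  have hMd : M O1 d = M O2 w0 - t • M O1 w0 := by
    rw [← hy, ← map_smul, ← map_sub]; rfl
  have hz : ∑ x, d x * d x = 0 := by
    have h1 := hα d d hd0 hd0
    have h2' : ∑ p, M O1 d p * M O1 d p = 0 := by
      have e : ∀ p, M O1 d p * M O1 d p = M O1 d p * M O2 w0 p - t * (M O1 d p * M O1 w0 p) := fun p => by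
        conv_lhs => arg 2; rw [hMd]
        simp only [Pi.sub_apply, Pi.smul_apply, smul_eq_mul]
        ring
      rw [Finset.sum_congr rfl (fun p _ => e p), Finset.sum_sub_distrib, ← Finset.mul_sum,
        hγ d w0 hd0 hw0, hα d w0 hd0 hw0, ← mul_assoc, div_mul_cancel₀ γ hαne, sub_self]
    rw [h2'] at h1
    exact (mul_eq_zero.1 h1.symm).resolve_left hαne
  have hdz : d = 0 := by
    funext x
    exact mul_self_eq_zero.1 ((Finset.sum_eq_zero_iff_of_nonneg (fun x _ => mul_self_nonneg (d x))).1 hz x (Finset.mem_univ _))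
  rw [hdz, map_zero] at hMd
  have hev := congrFun hMd (QuotientGroup.mk (1 : G))
  simp only [Pi.zero_apply, Pi.sub_apply, Pi.smul_apply, smul_eq_mul, hMapply, w0, mul_sub,
    Finset.sum_sub_distrib, Pi.single_apply, mul_ite, mul_one, mul_zero, Finset.sum_ite_eq',
    Finset.mem_univ, if_true, inc_one H O1 (hO a), inc_one H O2 (hO b)] at hev
  rw [if_pos (show b ∈ O2 from mem_orbit_self b), if_neg (show c ∉ O2 from hbc),
    if_neg (show b ∉ O1 from hab), if_neg (show c ∉ O1 from hac)] at hev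
  norm_num at hev

end CfsgLib.TwoOrbits
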